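import Cfsg.Prelude.Def_Local
import Cfsg.Agent.SignalizersComponents.LayerBasic
import Mathlib
import Cfsg.Agent.SignalizersComponents.Components
import Cfsg.Agent.Lib.GenFitting
import Cfsg.Agent.S1755
import Cfsg.Agent.FastGrp
import Cfsg.Agent.Prune
set_option linter.all false

section
prune_inst 0x7f00000000000000000000000000000000000000000000000000000000000000000000000000000000000000000000000000000000000000000000000000000000000000000000000000000000000000003fffffffffffffffffffffffffffbeffbdffffffff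

-- part: H812/LayerSimple
section
set_option linter.all false
open scoped Cfsg.Agent.FastGrp

/-!
# The layer of a group with a non-abelian simple normal subgroup and abelian quotient (helper812)
-/

set_option autoImplicit false

namespace Cfsg.Agent.H812.LayerSimple

open Subgroup
open scoped commutatorElement

theorem quasisimple_of_simple {H : Type*} [Group H] [IsSimpleGroup H] (h : ∃ a b : H, a * b ≠ b * a) :
    IsQuasisimple H := by
  obtain ⟨a, b, hab⟩ := h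
  have h1 : commutator H = ⊤ := by
    rcases (inferInstance : (commutator H).Normal).eq_bot_or_eq_top with h1 | h1
    · exfalso
      apply hab
      have h2 : ⁅a, b⁆ ∈ commutator H := by
        rw [_root_.commutator_def]
        exact commutator_mem_commutator (mem_top a) (mem_top b)
      rw [h1, mem_bot] at h2
      exact commutatorElement_eq_one_iff_mul_comm.1 h2
    · exact h1
  have h2 : center H = ⊥ := by
    rcases (inferInstance : (center H).Normal).eq_bot_or_eq_top with h2 | h2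
    · exact h2
    · exfalso
      apply hab
      have h3 : b ∈ center H := by rw [h2]; exact mem_top b
      exact mem_center_iff.1 h3 a
  refine ⟨⟨h1⟩, ?_⟩
  have e : H ⧸ center H ≃* H := (QuotientGroup.quotientMulEquivOfEq h2).trans QuotientGroup.quotientBot
  exact e.isSimpleGroup

theorem layer_eq {X : Type*} [Group X] (N : Subgroup X) (hN : N.Normal) (hs : IsSimpleGroup N)
    (hna : ∃ a b : N, a * b ≠ b * a) (hc : ∀ a b : X, a * b * a⁻¹ * b⁻¹ ∈ N) : layer X = N := by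
  have hq : IsQuasisimple N := quasisimple_of_simple hna
  apply le_antisymm
  · refine sSup_le ?_
    intro K hK
    have hp : commutator K = ⊤ := hK.2.1.commutator_eq_top
    have h1 : ⁅K, K⁆ = K := by
      have h2 := congrArg (Subgroup.map K.subtype) hp
      rw [_root_.commutator_def, Subgroup.map_commutator, ← MonoidHom.range_eq_map, Subgroup.range_subtype] at h2
      exact h2
    rw [← h1, commutator_le]
    intro a _ b _
    exact hc a b
  · exact le_sSup ⟨hN.isSubnormal, hq⟩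

end Cfsg.Agent.H812.LayerSimple
end

-- part: H15/Prj
section
set_option linter.all false
open scoped Cfsg.Agent.FastGrp

/-!
# Projections to the factors of a central product, diagonals

`X` a group, `J` a subgroup.

* `cj s J = s J s⁻¹`, `Cm J K` : `J` and `K` commute elementwise;
* `Acts J x y` : `y ∈ J` and `x` acts on `J` (by conjugation) like `y`; `dom J` : the `x` with such a `y`; `pr J x` : the
  element `y` (unique if the centre of `J` is trivial, `CL J`);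
* `PC 𝒢` : the members of `𝒢` commute pairwise; `mem_of_acts`, `exists_of_fun`;
* `dg e n x = x · x^e ⋯ x^{e^{n-1}}`, and `DG` : the centraliser of `e` in `⟨𝒢⟩` if `e` moves all the members of `𝒢`.
-/

set_option autoImplicit false

namespace Cfsg.Agent.H15.Prj

variable {X : Type*} [Group X]

/-! ### Conjugates -/

/-- The conjugate `s J s⁻¹`. -/
def cj (s : X) (J : Subgroup X) : Subgroup X := J.map (MulAut.conj s).toMonoidHom

theorem mem_cj {s y : X} {J : Subgroup X} : y ∈ cj s J ↔ s⁻¹ * y * s ∈ J := by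
  constructor
  · rintro ⟨k, hk, rfl⟩
    change s⁻¹ * (s * k * s⁻¹) * s ∈ J
    have : s⁻¹ * (s * k * s⁻¹) * s = k := by group
    rw [this]; exact hk
  · intro h
    refine ⟨s⁻¹ * y * s, h, ?_⟩
    change s * (s⁻¹ * y * s) * s⁻¹ = y
    group

theorem conj_mem_cj {s x : X} {J : Subgroup X} (hx : x ∈ J) : s * x * s⁻¹ ∈ cj s J := ⟨x, hx, rfl⟩

theorem exists_of_mem_cj {s y : X} {J : Subgroup X} (hy : y ∈ cj s J) : ∃ x ∈ J, y = s * x * s⁻¹ := by
  obtain ⟨x, hx, rfl⟩ := hy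
  exact ⟨x, hx, rfl⟩

theorem cj_one (J : Subgroup X) : cj 1 J = J := by
  ext y; rw [mem_cj]; simp

theorem cj_mul (s t : X) (J : Subgroup X) : cj (s * t) J = cj s (cj t J) := by
  ext y
  rw [mem_cj, mem_cj, mem_cj]
  have : (s * t)⁻¹ * y * (s * t) = t⁻¹ * (s⁻¹ * y * s) * t := by group
  rw [this]

theorem cj_inv_cj (s : X) (J : Subgroup X) : cj s⁻¹ (cj s J) = J := by
  rw [← cj_mul, inv_mul_cancel, cj_one]

theorem cj_cj_inv (s : X) (J : Subgroup X) : cj s (cj s⁻¹ J) = J := by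
  rw [← cj_mul, mul_inv_cancel, cj_one]

theorem cj_injective (s : X) : Function.Injective (cj s) := fun J K h => by
  rw [← cj_inv_cj s J, h, cj_inv_cj]

theorem cj_mono {s : X} {J K : Subgroup X} (h : J ≤ K) : cj s J ≤ cj s K := Subgroup.map_mono h

theorem cj_eq_self_iff {s : X} {J : Subgroup X} : cj s J = J ↔ s ∈ Subgroup.normalizer (J : Set X) := by
  constructor
  · intro h
    rw [Subgroup.mem_normalizer_iff]
    intro x
    constructor
    · intro hx
      have : s * x * s⁻¹ ∈ cj s J := conj_mem_cj hx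
      rwa [h] at this
    · intro hx
      have h1 : s⁻¹ * (s * x * s⁻¹) * s ∈ J := by
        rw [← mem_cj, h]; exact hx
      have : s⁻¹ * (s * x * s⁻¹) * s = x := by group
      rwa [this] at h1
  · intro h
    ext y
    rw [mem_cj]
    have h1 := (Subgroup.mem_normalizer_iff.1 (inv_mem h)) y
    rw [inv_inv] at h1
    exact h1.symm

theorem cj_eq_self_of_mem {s : X} {J : Subgroup X} (h : s ∈ J) : cj s J = J :=
  cj_eq_self_iff.2 (Subgroup.le_normalizer h)

theorem cj_sSup (s : X) (S : Set (Subgroup X)) : cj s (sSup S) = sSup (cj s '' S) := by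
  apply le_antisymm
  · unfold cj
    rw [Subgroup.map_le_iff_le_comap]
    refine sSup_le fun J hJ => ?_
    rw [← Subgroup.map_le_iff_le_comap]
    exact le_sSup ⟨J, hJ, rfl⟩
  · refine sSup_le ?_
    rintro _ ⟨J, hJ, rfl⟩
    exact cj_mono (le_sSup hJ)

theorem cj_pow_succ (s : X) (n : ℕ) (J : Subgroup X) : cj (s ^ (n + 1)) J = cj s (cj (s ^ n) J) := by
  rw [pow_succ', cj_mul]

/-- The commuting relation. -/
def Cm (J K : Subgroup X) : Prop := ∀ x ∈ J, ∀ y ∈ K, x * y = y * x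

theorem Cm.symm {J K : Subgroup X} (h : Cm J K) : Cm K J := fun x hx y hy => (h y hy x hx).symm

theorem Cm.mono {J K J' K' : Subgroup X} (h : Cm J K) (hJ : J' ≤ J) (hK : K' ≤ K) : Cm J' K' :=
  fun x hx y hy => h x (hJ hx) y (hK hy)

theorem Cm.conj {J K : Subgroup X} (h : Cm J K) (s : X) : Cm (cj s J) (cj s K) := by
  intro x0 hx0 y0 hy0
  obtain ⟨x, hx, rfl⟩ := exists_of_mem_cj hx0
  obtain ⟨y, hy, rfl⟩ := exists_of_mem_cj hy0
  have := h x hx y hy
  calc s * x * s⁻¹ * (s * y * s⁻¹) = s * (x * y) * s⁻¹ := by group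
    _ = s * (y * x) * s⁻¹ := by rw [this]
    _ = s * y * s⁻¹ * (s * x * s⁻¹) := by group

theorem Cm.iff_le {J K : Subgroup X} : Cm J K ↔ J ≤ Subgroup.centralizer (K : Set X) := by
  constructor
  · intro h x hx
    rw [Subgroup.mem_centralizer_iff]
    intro y hy
    exact (h x hx y hy).symm
  · intro h x hx y hy
    have := Subgroup.mem_centralizer_iff.1 (h hx) y hy
    exact this.symm

theorem Cm.sSup_left {S : Set (Subgroup X)} {K : Subgroup X} (h : ∀ J ∈ S, Cm J K) : Cm (sSup S) K :=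
  Cm.iff_le.2 (sSup_le fun J hJ => Cm.iff_le.1 (h J hJ))

theorem Cm.sSup_right {S : Set (Subgroup X)} {K : Subgroup X} (h : ∀ J ∈ S, Cm K J) : Cm K (sSup S) :=
  (Cm.sSup_left fun J hJ => (h J hJ).symm).symm

/-! ### The action -/

/-- `y ∈ J` and `x` acts on `J` like `y`. -/
def Acts (J : Subgroup X) (x y : X) : Prop := y ∈ J ∧ ∀ j ∈ J, x * j * x⁻¹ = y * j * y⁻¹

namespace Acts

variable {J : Subgroup X} {x x' y y' s : X}

theorem one (J : Subgroup X) : Acts J 1 1 := ⟨J.one_mem, fun _ _ => rfl⟩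

theorem self (h : x ∈ J) : Acts J x x := ⟨h, fun _ _ => rfl⟩

theorem of_comm (h : ∀ j ∈ J, x * j = j * x) : Acts J x 1 := by
  refine ⟨J.one_mem, fun j hj => ?_⟩
  rw [h j hj]; group

theorem comm_of_one (h : Acts J x 1) : ∀ j ∈ J, x * j = j * x := by
  intro j hj
  have := h.2 j hj
  rw [one_mul, inv_one, mul_one] at this
  calc x * j = x * j * x⁻¹ * x := by group
    _ = j * x := by rw [this]

theorem conj_mem (h : Acts J x y) {j : X} (hj : j ∈ J) : x * j * x⁻¹ ∈ J := by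
  rw [h.2 j hj]
  exact J.mul_mem (J.mul_mem h.1 hj) (J.inv_mem h.1)

theorem mul (h : Acts J x y) (h' : Acts J x' y') : Acts J (x * x') (y * y') := by
  refine ⟨J.mul_mem h.1 h'.1, fun j hj => ?_⟩
  calc x * x' * j * (x * x')⁻¹ = x * (x' * j * x'⁻¹) * x⁻¹ := by group
    _ = x * (y' * j * y'⁻¹) * x⁻¹ := by rw [h'.2 j hj]
    _ = y * (y' * j * y'⁻¹) * y⁻¹ := h.2 _ (J.mul_mem (J.mul_mem h'.1 hj) (J.inv_mem h'.1))
    _ = y * y' * j * (y * y')⁻¹ := by group

theorem inv (h : Acts J x y) : Acts J x⁻¹ y⁻¹ := by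
  refine ⟨J.inv_mem h.1, fun j hj => ?_⟩
  have h1 : y⁻¹ * j * y ∈ J := J.mul_mem (J.mul_mem (J.inv_mem h.1) hj) h.1
  have h2 := h.2 _ h1
  have h3 : y * (y⁻¹ * j * y) * y⁻¹ = j := by group
  rw [h3] at h2
  rw [inv_inv, inv_inv]
  calc x⁻¹ * j * x = x⁻¹ * (x * (y⁻¹ * j * y) * x⁻¹) * x := by rw [h2]
    _ = y⁻¹ * j * y := by group

theorem conj (h : Acts J x y) (s : X) : Acts (cj s J) (s * x * s⁻¹) (s * y * s⁻¹) := by
  refine ⟨conj_mem_cj h.1, fun j0 hj0 => ?_⟩
  obtain ⟨j, hj, rfl⟩ := exists_of_mem_cj hj0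
  calc s * x * s⁻¹ * (s * j * s⁻¹) * (s * x * s⁻¹)⁻¹ = s * (x * j * x⁻¹) * s⁻¹ := by group
    _ = s * (y * j * y⁻¹) * s⁻¹ := by rw [h.2 j hj]
    _ = s * y * s⁻¹ * (s * j * s⁻¹) * (s * y * s⁻¹)⁻¹ := by group

/-- Multiplication with an element centralising `J`. -/
theorem mul_comm_right (h : Acts J x y) (h' : ∀ j ∈ J, x' * j = j * x') : Acts J (x * x') y := by
  have := h.mul (of_comm h')
  rwa [mul_one] at this

theorem mul_comm_left (h : Acts J x y) (h' : ∀ j ∈ J, x' * j = j * x') : Acts J (x' * x) y := by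
  have := (of_comm h').mul h
  rwa [one_mul] at this

/-- If `x` acts as `y` and `y` acts as `x'` does, then ... -/
theorem of_eq (h : Acts J x y) (h' : ∀ j ∈ J, x' * j * x'⁻¹ = x * j * x⁻¹) : Acts J x' y :=
  ⟨h.1, fun j hj => (h' j hj).trans (h.2 j hj)⟩

/-- Commutation with `j ∈ J`. -/
theorem commute_iff (h : Acts J x y) {j : X} (hj : j ∈ J) : x * j = j * x ↔ y * j = j * y := by
  have h1 := h.2 j hj
  constructor
  · intro h2
    have h3 : y * j * y⁻¹ = j := by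
      rw [← h1, h2]; group
    calc y * j = y * j * y⁻¹ * y := by group
      _ = j * y := by rw [h3]
  · intro h2
    have h3 : x * j * x⁻¹ = j := by
      rw [h1, h2]; group
    calc x * j = x * j * x⁻¹ * x := by group
      _ = j * x := by rw [h3]

end Acts

/-- The centre of `J` is trivial. -/
def CL (J : Subgroup X) : Prop := ∀ z ∈ J, (∀ j ∈ J, z * j = j * z) → z = 1

theorem CL.conj {J : Subgroup X} (h : CL J) (s : X) : CL (cj s J) := by
  intro z0 hz0 hc
  obtain ⟨z, hz, rfl⟩ := exists_of_mem_cj hz0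
  have : z = 1 := by
    refine h z hz fun j hj => ?_
    have h1 := hc _ (conj_mem_cj (s := s) hj)
    calc z * j = s⁻¹ * (s * z * s⁻¹ * (s * j * s⁻¹)) * s := by group
      _ = s⁻¹ * (s * j * s⁻¹ * (s * z * s⁻¹)) * s := by rw [h1]
      _ = j * z := by group
  rw [this]; group

theorem Acts.unique {J : Subgroup X} {x y y' : X} (hJ : CL J) (h : Acts J x y) (h' : Acts J x y') : y = y' := by
  have h1 : Acts J (x⁻¹ * x) (y'⁻¹ * y) := h'.inv.mul h
  rw [inv_mul_cancel] at h1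
  have h2 : y'⁻¹ * y = 1 := by
    refine hJ _ h1.1 fun j hj => ?_
    have h3 := h1.2 j hj
    rw [one_mul, inv_one, mul_one] at h3
    calc y'⁻¹ * y * j = (y'⁻¹ * y * j * (y'⁻¹ * y)⁻¹) * (y'⁻¹ * y) := by group
      _ = j * (y'⁻¹ * y) := by rw [← h3]
  exact (inv_mul_eq_one.1 h2).symm

/-- The elements inducing inner automorphisms on `J`. -/
def dom (J : Subgroup X) : Subgroup X where
  carrier := {x | ∃ y, Acts J x y}
  one_mem' := ⟨1, Acts.one J⟩
  mul_mem' := fun ⟨_, h⟩ ⟨_, h'⟩ => ⟨_, h.mul h'⟩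
  inv_mem' := fun ⟨_, h⟩ => ⟨_, h.inv⟩

theorem mem_dom {J : Subgroup X} {x : X} : x ∈ dom J ↔ ∃ y, Acts J x y := Iff.rfl

theorem le_dom (J : Subgroup X) : J ≤ dom J := fun _ hx => ⟨_, Acts.self hx⟩

theorem dom_of_cm {J K : Subgroup X} (h : Cm K J) : K ≤ dom J := fun _ hx => ⟨1, Acts.of_comm fun j hj => h _ hx j hj⟩

open Classical in
/-- The projection. -/
noncomputable def pr (J : Subgroup X) (x : X) : X := if h : ∃ y, Acts J x y then h.choose else 1

theorem pr_acts {J : Subgroup X} {x : X} (h : x ∈ dom J) : Acts J x (pr J x) := by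
  have h' : ∃ y, Acts J x y := h
  unfold pr
  rw [dif_pos h']
  exact h'.choose_spec

theorem pr_mem {J : Subgroup X} {x : X} (h : x ∈ dom J) : pr J x ∈ J := (pr_acts h).1

theorem Acts.pr_eq {J : Subgroup X} {x y : X} (h : Acts J x y) (hJ : CL J) : pr J x = y :=
  Acts.unique hJ (pr_acts ⟨y, h⟩) h

theorem pr_mul {J : Subgroup X} (hJ : CL J) {x y : X} (hx : x ∈ dom J) (hy : y ∈ dom J) :
    pr J (x * y) = pr J x * pr J y := ((pr_acts hx).mul (pr_acts hy)).pr_eq hJ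

theorem pr_inv {J : Subgroup X} (hJ : CL J) {x : X} (hx : x ∈ dom J) : pr J x⁻¹ = (pr J x)⁻¹ :=
  (pr_acts hx).inv.pr_eq hJ

theorem pr_one {J : Subgroup X} (hJ : CL J) : pr J (1 : X) = 1 := (Acts.one J).pr_eq hJ

theorem pr_self {J : Subgroup X} (hJ : CL J) {x : X} (hx : x ∈ J) : pr J x = x := (Acts.self hx).pr_eq hJ

theorem pr_comm {J : Subgroup X} (hJ : CL J) {x : X} (h : ∀ j ∈ J, x * j = j * x) : pr J x = 1 :=
  (Acts.of_comm h).pr_eq hJ

theorem pr_conj {J : Subgroup X} (hJ : CL J) {x : X} (hx : x ∈ dom J) (s : X) :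
    pr (cj s J) (s * x * s⁻¹) = s * pr J x * s⁻¹ := ((pr_acts hx).conj s).pr_eq (hJ.conj s)

theorem pr_commute {J : Subgroup X} (hJ : CL J) {x y : X} (hx : x ∈ dom J) (hy : y ∈ dom J) (h : x * y = y * x) :
    pr J x * pr J y = pr J y * pr J x := by
  rw [← pr_mul hJ hx hy, h, pr_mul hJ hy hx]

/-! ### Pairwise commuting families -/

/-- The members of `𝒢` commute pairwise. -/
def PC (𝒢 : Set (Subgroup X)) : Prop := ∀ J ∈ 𝒢, ∀ K ∈ 𝒢, J ≠ K → Cm J K

theorem PC.mono {𝒢 𝒢' : Set (Subgroup X)} (h : PC 𝒢) (h' : 𝒢' ⊆ 𝒢) : PC 𝒢' :=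
  fun J hJ K hK hne => h J (h' hJ) K (h' hK) hne

theorem PC.le_dom {𝒢 : Set (Subgroup X)} (h : PC 𝒢) {J : Subgroup X} (hJ : J ∈ 𝒢) : sSup 𝒢 ≤ dom J := by
  refine sSup_le fun K hK => ?_
  by_cases e : K = J
  · rw [e]; exact Prj.le_dom J
  · exact dom_of_cm (h K hK J hJ e)

theorem PC.cm_rest {𝒢 : Set (Subgroup X)} {J : Subgroup X} (hJ : J ∉ 𝒢) (h : PC (insert J 𝒢)) : Cm (sSup 𝒢) J :=
  Cm.sSup_left fun K hK => h K (Set.mem_insert_of_mem _ hK) J (Set.mem_insert _ _) (fun e => hJ (e ▸ hK))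

theorem mem_sup_of_cm {J K : Subgroup X} (h : Cm J K) {x : X} (hx : x ∈ J ⊔ K) : ∃ j ∈ J, ∃ k ∈ K, x = j * k := by
  let S : Subgroup X :=
    { carrier := {x | ∃ j ∈ J, ∃ k ∈ K, x = j * k}
      one_mem' := ⟨1, J.one_mem, 1, K.one_mem, by simp⟩
      mul_mem' := by
        rintro _ _ ⟨j, hj, k, hk, rfl⟩ ⟨j', hj', k', hk', rfl⟩
        refine ⟨j * j', J.mul_mem hj hj', k * k', K.mul_mem hk hk', ?_⟩
        calc j * k * (j' * k') = j * (k * j') * k' := by simp only [mul_assoc]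
          _ = j * (j' * k) * k' := by rw [h j' hj' k hk]
          _ = j * j' * (k * k') := by simp only [mul_assoc]
      inv_mem' := by
        rintro _ ⟨j, hj, k, hk, rfl⟩
        refine ⟨j⁻¹, J.inv_mem hj, k⁻¹, K.inv_mem hk, ?_⟩
        rw [h _ (J.inv_mem hj) _ (K.inv_mem hk), mul_inv_rev] }
  have hS : J ⊔ K ≤ S := by
    rw [sup_le_iff]
    exact ⟨fun j hj => ⟨j, hj, 1, K.one_mem, by simp⟩, fun k hk => ⟨1, J.one_mem, k, hk, by simp⟩⟩
  exact hS hx

/-- Let `x ∈ ⟨𝒢⟩`. If `W` contains all the elements `y ∈ J ∈ 𝒢` which act on `J` like `x`, then `x ∈ W`. -/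
theorem mem_of_acts {𝒢 : Set (Subgroup X)} (hfin : 𝒢.Finite) (hpc : PC 𝒢) (W : Subgroup X) :
    ∀ {x : X}, x ∈ sSup 𝒢 → (∀ J ∈ 𝒢, ∀ y, Acts J x y → y ∈ W) → x ∈ W := by
  revert hpc
  refine hfin.induction_on_subset (motive := fun 𝒢 _ => PC 𝒢 → ∀ {x : X}, x ∈ sSup 𝒢 →
    (∀ J ∈ 𝒢, ∀ y, Acts J x y → y ∈ W) → x ∈ W) 𝒢 ?_ ?_
  · intro _ x hx _
    rw [sSup_empty, Subgroup.mem_bot] at hx
    rw [hx]; exact W.one_mem
  · intro J 𝒢' _ _ hJ ih hpc x hx hW
    rw [sSup_insert] at hx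
    have hcm := PC.cm_rest hJ hpc
    obtain ⟨j, hj, k, hk, rfl⟩ := mem_sup_of_cm hcm.symm hx
    have hjW : j ∈ W := hW J (Set.mem_insert _ _) j ((Acts.self hj).mul_comm_right fun i hi => hcm k hk i hi)
    have hkW : k ∈ W := by
      refine ih (hpc.mono (Set.subset_insert _ _)) hk fun K hK y hy => ?_
      refine hW K (Set.mem_insert_of_mem _ hK) y (hy.mul_comm_left fun i hi => ?_)
      exact hpc J (Set.mem_insert _ _) K (Set.mem_insert_of_mem _ hK) (fun e => hJ (e ▸ hK)) j hj i hi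
    exact W.mul_mem hjW hkW

/-- Elements with prescribed action. -/
theorem exists_of_fun {𝒢 : Set (Subgroup X)} (hfin : 𝒢.Finite) (hpc : PC 𝒢) (g : Subgroup X → X)
    (hg : ∀ J ∈ 𝒢, g J ∈ J) : ∃ x ∈ sSup 𝒢, ∀ J ∈ 𝒢, Acts J x (g J) := by
  revert hpc hg
  refine hfin.induction_on_subset (motive := fun 𝒢 _ => PC 𝒢 → (∀ J ∈ 𝒢, g J ∈ J) →
    ∃ x ∈ sSup 𝒢, ∀ J ∈ 𝒢, Acts J x (g J)) 𝒢 ?_ ?_
  · intro _ _
    exact ⟨1, Subgroup.one_mem _, fun J hJ => absurd hJ (Set.notMem_empty _)⟩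
  · intro J 𝒢' _ _ hJ ih hpc hg
    obtain ⟨k, hk, hk'⟩ := ih (hpc.mono (Set.subset_insert _ _)) fun K hK => hg K (Set.mem_insert_of_mem _ hK)
    have hcm := PC.cm_rest hJ hpc
    have hgJ := hg J (Set.mem_insert _ _)
    refine ⟨g J * k, ?_, ?_⟩
    · rw [sSup_insert]
      exact Subgroup.mul_mem _ (Subgroup.mem_sup_left hgJ) (Subgroup.mem_sup_right hk)
    · intro K hK
      rcases Set.mem_insert_iff.1 hK with rfl | hK'
      · exact (Acts.self hgJ).mul_comm_right fun i hi => hcm k hk i hi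
      · refine (hk' K hK').mul_comm_left fun i hi => ?_
        exact hpc J (Set.mem_insert _ _) K hK (fun e => hJ (e ▸ hK')) _ hgJ i hi

/-- An element of `⟨𝒢⟩` acting trivially on all the members of `𝒢` with trivial centre is `1`. -/
theorem eq_one_of_acts {𝒢 : Set (Subgroup X)} (hfin : 𝒢.Finite) (hpc : PC 𝒢) (hcl : ∀ J ∈ 𝒢, CL J) {x : X}
    (hx : x ∈ sSup 𝒢) (h : ∀ J ∈ 𝒢, pr J x = 1) : x = 1 := by
  have := mem_of_acts hfin hpc ⊥ hx fun J hJ y hy => by
    rw [Subgroup.mem_bot, ← h J hJ, hy.pr_eq (hcl J hJ)]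
  rwa [Subgroup.mem_bot] at this

theorem ext_of_pr {𝒢 : Set (Subgroup X)} (hfin : 𝒢.Finite) (hpc : PC 𝒢) (hcl : ∀ J ∈ 𝒢, CL J) {x y : X}
    (hx : x ∈ sSup 𝒢) (hy : y ∈ sSup 𝒢) (h : ∀ J ∈ 𝒢, pr J x = pr J y) : x = y := by
  have h1 : x⁻¹ * y = 1 := by
    refine eq_one_of_acts hfin hpc hcl ((sSup 𝒢).mul_mem ((sSup 𝒢).inv_mem hx) hy) fun J hJ => ?_
    rw [pr_mul (hcl J hJ) ((dom J).inv_mem (hpc.le_dom hJ hx)) (hpc.le_dom hJ hy),
      pr_inv (hcl J hJ) (hpc.le_dom hJ hx), h J hJ, inv_mul_cancel]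
  exact inv_mul_eq_one.1 h1

/-! ### The trace -/

/-- `x · x^e ⋯ x^{e^{n-1}}`. -/
def dg (e : X) : ℕ → X → X
  | 0, _ => 1
  | n + 1, x => dg e n x * (e ^ n * x * (e ^ n)⁻¹)

theorem dg_zero (e x : X) : dg e 0 x = 1 := rfl

theorem dg_succ (e x : X) (n : ℕ) : dg e (n + 1) x = dg e n x * (e ^ n * x * (e ^ n)⁻¹) := rfl

theorem dg_mem {e x : X} {H : Subgroup X} {n : ℕ} (h : ∀ i, i < n → e ^ i * x * (e ^ i)⁻¹ ∈ H) : dg e n x ∈ H := by
  induction n with
  | zero => exact H.one_mem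
  | succ n ih => exact H.mul_mem (ih fun i hi => h i (by omega)) (h n (by omega))

theorem dg_comm {e x g : X} {n : ℕ} (h : ∀ i, i < n → g * (e ^ i * x * (e ^ i)⁻¹) = (e ^ i * x * (e ^ i)⁻¹) * g) :
    g * dg e n x = dg e n x * g := by
  induction n with
  | zero => simp [dg_zero]
  | succ n ih =>
    rw [dg_succ, ← mul_assoc, ih fun i hi => h i (by omega), mul_assoc, h n (by omega)]
    simp only [mul_assoc]

theorem dg_mul {e x y : X} {n : ℕ} (h : ∀ i j, i < j → j < n →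
    (e ^ i * y * (e ^ i)⁻¹) * (e ^ j * x * (e ^ j)⁻¹) = (e ^ j * x * (e ^ j)⁻¹) * (e ^ i * y * (e ^ i)⁻¹)) :
    dg e n (x * y) = dg e n x * dg e n y := by
  induction n with
  | zero => simp [dg_zero]
  | succ n ih =>
    rw [dg_succ, dg_succ, dg_succ, ih fun i j hij hj => h i j hij (by omega)]
    have h1 : (e ^ n * x * (e ^ n)⁻¹) * dg e n y = dg e n y * (e ^ n * x * (e ^ n)⁻¹) :=
      dg_comm fun i hi => (h i n hi (by omega)).symm
    have h2 : e ^ n * (x * y) * (e ^ n)⁻¹ = (e ^ n * x * (e ^ n)⁻¹) * (e ^ n * y * (e ^ n)⁻¹) := by group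
    rw [h2]
    calc dg e n x * dg e n y * ((e ^ n * x * (e ^ n)⁻¹) * (e ^ n * y * (e ^ n)⁻¹))
        = dg e n x * (dg e n y * (e ^ n * x * (e ^ n)⁻¹)) * (e ^ n * y * (e ^ n)⁻¹) := by
          simp only [mul_assoc]
      _ = dg e n x * ((e ^ n * x * (e ^ n)⁻¹) * dg e n y) * (e ^ n * y * (e ^ n)⁻¹) := by rw [h1]
      _ = _ := by simp only [mul_assoc]

theorem dg_conj {e x s : X} (n : ℕ) (h : s * e = e * s) : s * dg e n x * s⁻¹ = dg e n (s * x * s⁻¹) := by
  induction n with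
  | zero => simp [dg_zero]
  | succ n ih =>
    have h1 : s * e ^ n = e ^ n * s := (Commute.pow_right h n)
    rw [dg_succ, dg_succ, ← ih]
    have h2 : e ^ n * (s * x * s⁻¹) * (e ^ n)⁻¹ = s * (e ^ n * x * (e ^ n)⁻¹) * s⁻¹ := by
      calc e ^ n * (s * x * s⁻¹) * (e ^ n)⁻¹ = (e ^ n * s) * x * (e ^ n * s)⁻¹ := by group
        _ = (s * e ^ n) * x * (s * e ^ n)⁻¹ := by rw [h1]
        _ = s * (e ^ n * x * (e ^ n)⁻¹) * s⁻¹ := by group
    rw [h2]; group

theorem dg_shift (e x : X) (n : ℕ) : x * (e * dg e n x * e⁻¹) = dg e (n + 1) x := by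
  induction n with
  | zero => simp [dg_zero, dg_succ]
  | succ n ih =>
    calc x * (e * dg e (n + 1) x * e⁻¹)
        = x * (e * dg e n x * e⁻¹) * (e ^ (n + 1) * x * (e ^ (n + 1))⁻¹) := by
          rw [dg_succ e x n, pow_succ']
          simp only [mul_assoc, mul_inv_rev, inv_mul_cancel_left]
      _ = dg e (n + 1) x * (e ^ (n + 1) * x * (e ^ (n + 1))⁻¹) := by rw [ih]
      _ = dg e (n + 1 + 1) x := rfl

theorem dg_fix {e x : X} {n : ℕ} (he : e ^ n = 1)
    (h : ∀ i, 0 < i → i < n → x * (e ^ i * x * (e ^ i)⁻¹) = (e ^ i * x * (e ^ i)⁻¹) * x) :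
    e * dg e n x = dg e n x * e := by
  have h1 := dg_shift e x n
  rw [dg_succ, he] at h1
  have h2 : x * dg e n x = dg e n x * x := dg_comm fun i hi => by
    rcases Nat.eq_zero_or_pos i with rfl | hi0
    · simp
    · exact h i hi0 hi
  have h3 : dg e n x * (1 * x * 1⁻¹) = x * dg e n x := by rw [h2]; group
  rw [h3] at h1
  have h4 := mul_left_cancel h1
  calc e * dg e n x = (e * dg e n x * e⁻¹) * e := by group
    _ = dg e n x * e := by rw [h4]

theorem dg_one (e : X) (n : ℕ) : dg e n 1 = 1 := by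
  induction n with
  | zero => rfl
  | succ n ih => rw [dg_succ, ih]; group

theorem dg_acts {J : Subgroup X} {e x y : X} {n : ℕ} (hn : 0 < n) (h0 : Acts J x y)
    (h : ∀ i, 0 < i → i < n → ∀ j ∈ J, (e ^ i * x * (e ^ i)⁻¹) * j = j * (e ^ i * x * (e ^ i)⁻¹)) :
    Acts J (dg e n x) y := by
  induction n with
  | zero => omega
  | succ n ih =>
    rcases Nat.eq_zero_or_pos n with rfl | hn0
    · rw [dg_succ, dg_zero]
      have : (1 : X) * (e ^ 0 * x * (e ^ 0)⁻¹) = x := by simp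
      rw [this]; exact h0
    · rw [dg_succ]
      exact (ih hn0 fun i hi0 hi => h i hi0 (by omega)).mul_comm_right (h n hn0 (by omega))

/-! ### An element moving all the members of a family -/

section Moves

variable {r : ℕ} (hr : r.Prime) {e : X} (he : e ^ r = 1) {𝒢 : Set (Subgroup X)} (hst : ∀ J ∈ 𝒢, cj e J ∈ 𝒢)
  (hmv : ∀ J ∈ 𝒢, cj e J ≠ J)

include hst in
theorem cj_pow_mem {J : Subgroup X} (hJ : J ∈ 𝒢) (i : ℕ) : cj (e ^ i) J ∈ 𝒢 := by
  induction i with
  | zero => rwa [pow_zero, cj_one]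
  | succ i ih => rw [cj_pow_succ]; exact hst _ ih

theorem cj_of_pow {J : Subgroup X} (hr : r.Prime) (he : e ^ r = 1) {i : ℕ} (hi : ¬ r ∣ i) (h : cj (e ^ i) J = J) :
    cj e J = J := by
  rw [cj_eq_self_iff] at h ⊢
  have h1 : (i : ℕ).Coprime r := ((hr.coprime_iff_not_dvd).2 hi).symm
  have h2 := Nat.gcd_eq_gcd_ab i r
  rw [h1] at h2
  have h3 : e = (e ^ i) ^ (Nat.gcdA i r) * (e ^ r) ^ (Nat.gcdB i r) := by
    rw [← zpow_natCast, ← zpow_natCast, ← zpow_mul, ← zpow_mul, ← zpow_add, ← h2]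
    simp
  rw [h3, he, one_zpow, mul_one]
  exact Subgroup.zpow_mem _ h _

include hr he in
theorem cj_pow_ne {J : Subgroup X} (hJ : cj e J ≠ J) {i k : ℕ} (hik : i < k) (hk : k < r) :
    cj (e ^ i) J ≠ cj (e ^ k) J := by
  intro h
  apply hJ
  have h1 : k = i + (k - i) := by omega
  refine cj_of_pow hr he (i := k - i) ?_ ?_
  · intro h5
    have := Nat.le_of_dvd (by omega) h5
    omega
  · rw [h1, pow_add, cj_mul] at h
    exact (cj_injective _ h).symm

include hr he in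
theorem cj_pow_ne' {J : Subgroup X} (hJ : cj e J ≠ J) {i k : ℕ} (hi : i < r) (hk : k < r) (hik : i ≠ k) :
    cj (e ^ i) J ≠ cj (e ^ k) J := by
  rcases Nat.lt_or_ge i k with h | h
  · exact cj_pow_ne hr he hJ h hk
  · exact (cj_pow_ne hr he hJ (lt_of_le_of_ne h (Ne.symm hik)) hi).symm

include hr he hst hmv in
theorem moves_comm (hpc : PC 𝒢) {J : Subgroup X} (hJ : J ∈ 𝒢) {x y : X} (hx : x ∈ J) (hy : y ∈ J) {i k : ℕ}
    (hi : i < r) (hk : k < r) (hik : i ≠ k) :
    (e ^ i * x * (e ^ i)⁻¹) * (e ^ k * y * (e ^ k)⁻¹) = (e ^ k * y * (e ^ k)⁻¹) * (e ^ i * x * (e ^ i)⁻¹) :=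
  hpc _ (cj_pow_mem hst hJ i) _ (cj_pow_mem hst hJ k) (cj_pow_ne' hr he (hmv J hJ) hi hk hik) _ (conj_mem_cj hx) _
    (conj_mem_cj hy)

include hr he hst hmv in
/-- The trace is multiplicative on `J`. -/
theorem dg_mul' (hpc : PC 𝒢) {J : Subgroup X} (hJ : J ∈ 𝒢) {x y : X} (hx : x ∈ J) (hy : y ∈ J) :
    dg e r (x * y) = dg e r x * dg e r y :=
  dg_mul fun i j hij hj => moves_comm hr he hst hmv hpc hJ hy hx (by omega) hj (by omega)

include hr he hst hmv in
theorem dg_inv' (hpc : PC 𝒢) {J : Subgroup X} (hJ : J ∈ 𝒢) {x : X} (hx : x ∈ J) :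
    dg e r x⁻¹ = (dg e r x)⁻¹ := by
  rw [eq_inv_iff_mul_eq_one, ← dg_mul' hr he hst hmv hpc hJ (J.inv_mem hx) hx, inv_mul_cancel, dg_one]

include hr he hst hmv in
theorem dg_fix' (hpc : PC 𝒢) {J : Subgroup X} (hJ : J ∈ 𝒢) {x : X} (hx : x ∈ J) :
    e * dg e r x = dg e r x * e := by
  refine dg_fix he fun i hi0 hi => ?_
  have := moves_comm hr he hst hmv hpc hJ hx hx (i := 0) hr.pos hi (by omega)
  simpa using this

include hr he hst hmv in
theorem dg_acts' (hpc : PC 𝒢) {J : Subgroup X} (hJ : J ∈ 𝒢) {x : X} (hx : x ∈ J) : Acts J (dg e r x) x := by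
  refine dg_acts hr.pos (Acts.self hx) fun i hi0 hi j hj => ?_
  have := moves_comm hr he hst hmv hpc hJ hx hj (i := i) (k := 0) hi hr.pos (by omega)
  simpa using this

include hr he hst hmv in
/-- The action on the conjugates. -/
theorem dg_acts_pow (hpc : PC 𝒢) {J : Subgroup X} (hJ : J ∈ 𝒢) {x : X} (hx : x ∈ J) (k : ℕ) :
    Acts (cj (e ^ k) J) (dg e r x) (e ^ k * x * (e ^ k)⁻¹) := by
  have h1 := (dg_acts' hr he hst hmv hpc hJ hx).conj (e ^ k)
  have h2 : e ^ k * dg e r x = dg e r x * e ^ k :=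
    (show Commute (e ^ k) (dg e r x) from Commute.pow_left (dg_fix' hr he hst hmv hpc hJ hx) k)
  have h3 : e ^ k * dg e r x * (e ^ k)⁻¹ = dg e r x := by rw [h2]; group
  rwa [h3] at h1

include hst in
theorem dg_mem_sSup {J : Subgroup X} (hJ : J ∈ 𝒢) {x : X} (hx : x ∈ J) (n : ℕ) : dg e n x ∈ sSup 𝒢 :=
  dg_mem fun i _ => (le_sSup (cj_pow_mem hst hJ i) : cj (e ^ i) J ≤ sSup 𝒢) (conj_mem_cj hx)

include hst in
/-- Members outside of the orbit are centralised. -/
theorem dg_comm_of_ne (hpc : PC 𝒢) {J : Subgroup X} (hJ : J ∈ 𝒢) {x : X} (hx : x ∈ J) {K : Subgroup X} (hK : K ∈ 𝒢)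
    {n : ℕ} (h : ∀ i, i < n → cj (e ^ i) J ≠ K) {g : X} (hg : g ∈ K) : g * dg e n x = dg e n x * g :=
  dg_comm fun i hi => (hpc _ (cj_pow_mem hst hJ i) K hK (h i hi) _ (conj_mem_cj hx) g hg).symm

include hr he hst hmv in
/-- **The centraliser of `e` in `⟨𝒢⟩`**, `e` moving all the members of `𝒢`. -/
theorem DG (hfin : 𝒢.Finite) (hpc : PC 𝒢) (H : Subgroup X) (hH : ∀ J ∈ 𝒢, ∀ x ∈ J, dg e r x ∈ H) :
    ∀ x ∈ sSup 𝒢, e * x = x * e → ∃ h ∈ H, h ∈ sSup 𝒢 ∧ e * h = h * e ∧ ∀ J ∈ 𝒢, ∀ j ∈ J, h⁻¹ * x * j = j * (h⁻¹ * x) := by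
  classical
  have key : ∀ n : ℕ, ∀ x ∈ sSup 𝒢, e * x = x * e → {J ∈ 𝒢 | ¬ ∀ j ∈ J, x * j = j * x}.ncard = n →
      ∃ h ∈ H, h ∈ sSup 𝒢 ∧ e * h = h * e ∧ ∀ J ∈ 𝒢, ∀ j ∈ J, h⁻¹ * x * j = j * (h⁻¹ * x) := by
    intro n
    induction n using Nat.strong_induction_on with
    | _ n ih =>
      intro x hx hxe hn
      by_cases hemp : {J ∈ 𝒢 | ¬ ∀ j ∈ J, x * j = j * x} = ∅
      · refine ⟨1, H.one_mem, Subgroup.one_mem _, by simp, fun J hJ j hj => ?_⟩
        have h1 : J ∉ {J ∈ 𝒢 | ¬ ∀ j ∈ J, x * j = j * x} := by rw [hemp]; exact Set.notMem_empty _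
        have h2 : ∀ j ∈ J, x * j = j * x := by
          by_contra h3
          exact h1 ⟨hJ, h3⟩
        rw [inv_one, one_mul]
        exact h2 j hj
      · obtain ⟨J, hJ, hJx⟩ := Set.nonempty_iff_ne_empty.2 hemp
        obtain ⟨y, hy⟩ := hpc.le_dom hJ hx
        have hyJ := hy.1
        have hd := dg_acts' hr he hst hmv hpc hJ hyJ
        have hde := dg_fix' hr he hst hmv hpc hJ hyJ
        have hdS : dg e r y ∈ sSup 𝒢 := dg_mem_sSup hst hJ hyJ r
        -- the action of `x` on the conjugates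
        have hxk : ∀ k, Acts (cj (e ^ k) J) x (e ^ k * y * (e ^ k)⁻¹) := by
          intro k
          have h1 := hy.conj (e ^ k)
          have h2 : e ^ k * x = x * e ^ k := (show Commute (e ^ k) x from Commute.pow_left hxe k)
          have h3 : e ^ k * x * (e ^ k)⁻¹ = x := by rw [h2]; group
          rwa [h3] at h1
        have hx' : (dg e r y)⁻¹ * x ∈ sSup 𝒢 := Subgroup.mul_mem _ (Subgroup.inv_mem _ hdS) hx
        have hxe' : e * ((dg e r y)⁻¹ * x) = (dg e r y)⁻¹ * x * e := by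
          have h1 : Commute e (dg e r y)⁻¹ := Commute.inv_right hde
          exact Commute.mul_right h1 hxe
        have hsub : {K ∈ 𝒢 | ¬ ∀ j ∈ K, (dg e r y)⁻¹ * x * j = j * ((dg e r y)⁻¹ * x)} ⊂
            {K ∈ 𝒢 | ¬ ∀ j ∈ K, x * j = j * x} := by
          rw [Set.ssubset_iff_of_subset]
          · refine ⟨J, ⟨hJ, hJx⟩, ?_⟩
            rintro ⟨-, h1⟩
            apply h1
            have h2 : Acts J ((dg e r y)⁻¹ * x) (y⁻¹ * y) := hd.inv.mul hy
            rw [inv_mul_cancel] at h2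
            exact h2.comm_of_one
          · rintro K ⟨hK, hKx⟩
            refine ⟨hK, fun hKx' => hKx ?_⟩
            by_cases horb : ∃ k, k < r ∧ cj (e ^ k) J = K
            · obtain ⟨k, -, rfl⟩ := horb
              have h2 := (dg_acts_pow hr he hst hmv hpc hJ hyJ k).inv.mul (hxk k)
              rw [inv_mul_cancel] at h2
              exact h2.comm_of_one
            · push Not at horb
              intro j hj
              have h2 : Commute j (dg e r y) := dg_comm_of_ne hst hpc hJ hyJ hK (fun i hi => horb i hi) hj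
              have h3 : Commute x j := hKx' j hj
              exact (Commute.mul_left h2.symm.inv_left h3)
        have hlt := Set.ncard_lt_ncard hsub (hfin.subset (fun K hK => hK.1))
        rw [hn] at hlt
        obtain ⟨h, hh, hhS, hhe, hhc⟩ := ih _ hlt _ hx' hxe' rfl
        refine ⟨dg e r y * h, H.mul_mem (hH J hJ y hyJ) hh, Subgroup.mul_mem _ hdS hhS, ?_, fun K hK j hj => ?_⟩
        · exact Commute.mul_right (show Commute e (dg e r y) from hde) (show Commute e h from hhe)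
        · have h4 := hhc K hK j hj
          have h5 : (dg e r y * h)⁻¹ * x = h⁻¹ * ((dg e r y)⁻¹ * x) := by group
          rw [h5]; exact h4
  intro x hx hxe
  exact key _ x hx hxe rfl

end Moves

end Cfsg.Agent.H15.Prj
end

-- part: H15/SP
section
set_option linter.all false
open scoped Cfsg.Agent.FastGrp

/-!
# Direct products of non-abelian simple groups, as families of subgroups

* `SNA J` : the subgroup `J` is simple and not abelian;
* `SP Ω` : the members of `Ω` are simple non-abelian and commute pairwise (`⟨Ω⟩` is their direct product);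
* `SP.mem_of_normal`, `SP.unique`, `SP.normal_eq` : the factors and the normal subgroups of `⟨Ω⟩`;
* `dgS e r J` : the diagonal of `J, J^e, …`; `sp_dg`, `sSup_dg` : the centraliser in `⟨Ω⟩` of an element `e` of order `r`
  moving all the factors;
* `sub_eq` : a criterion for a subgroup projecting onto all the factors to be everything.
-/

set_option autoImplicit false
set_option linter.unusedSectionVars false

namespace Cfsg.Agent.H15.Prj

variable {X : Type*} [Group X]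

/-- `J` is simple and not abelian. -/
structure SNA (J : Subgroup X) : Prop where
  simple : IsSimpleGroup ↥J
  nonab : ∃ x ∈ J, ∃ y ∈ J, x * y ≠ y * x

namespace SNA

variable {J J' N : Subgroup X}

theorem normal (h : SNA J) (hN : N ≤ J) (hn : ∀ j ∈ J, ∀ n ∈ N, j * n * j⁻¹ ∈ N) : N = ⊥ ∨ N = J := by
  have := h.simple
  have : (N.subgroupOf J).Normal := ⟨fun n hn' g => by
    rw [Subgroup.mem_subgroupOf] at hn' ⊢
    exact hn g g.2 n hn'⟩
  rcases (inferInstance : (N.subgroupOf J).Normal).eq_bot_or_eq_top with h1 | h1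
  · left
    rw [Subgroup.subgroupOf_eq_bot] at h1
    rw [eq_bot_iff]
    intro x hx
    exact (h1.le_bot : N ⊓ J ≤ ⊥) ⟨hx, hN hx⟩
  · right
    rw [Subgroup.subgroupOf_eq_top] at h1
    exact le_antisymm hN h1

theorem ne_bot (h : SNA J) : J ≠ ⊥ := by
  rintro rfl
  obtain ⟨x, hx, y, hy, hne⟩ := h.nonab
  rw [Subgroup.mem_bot] at hx hy
  rw [hx, hy] at hne
  exact hne rfl

theorem exists_ne_one (h : SNA J) : ∃ x ∈ J, x ≠ 1 := by
  by_contra h1
  push Not at h1
  exact h.ne_bot (by rw [eq_bot_iff]; intro x hx; exact h1 x hx)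

theorem cl (h : SNA J) : CL J := by
  let Z : Subgroup X :=
    { carrier := {z | z ∈ J ∧ ∀ j ∈ J, z * j = j * z}
      one_mem' := ⟨J.one_mem, fun j _ => by simp⟩
      mul_mem' := by
        rintro a b ⟨ha, ha'⟩ ⟨hb, hb'⟩
        refine ⟨J.mul_mem ha hb, fun j hj => ?_⟩
        exact Commute.mul_left (show Commute a j from ha' j hj) (show Commute b j from hb' j hj)
      inv_mem' := by
        rintro a ⟨ha, ha'⟩
        refine ⟨J.inv_mem ha, fun j hj => ?_⟩
        exact Commute.inv_left (show Commute a j from ha' j hj) }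
  have hZ : Z = ⊥ ∨ Z = J := by
    refine h.normal (fun z hz => hz.1) fun j hj n hn => ?_
    have h1 : j * n * j⁻¹ = n := by rw [← hn.2 j hj]; group
    rw [h1]; exact hn
  intro z hz hc
  rcases hZ with h1 | h1
  · have : z ∈ Z := ⟨hz, hc⟩
    rwa [h1, Subgroup.mem_bot] at this
  · exfalso
    obtain ⟨x, hx, y, hy, hne⟩ := h.nonab
    rw [← h1] at hx
    exact hne (hx.2 y hy)

/-- The image of `J` under a map which is multiplicative on `J`. -/
theorem of_map (h : SNA J) (φ : X → X) (h1 : ∀ x ∈ J, φ x ∈ J') (h2 : ∀ y ∈ J', ∃ x ∈ J, φ x = y)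
    (h3 : ∀ x ∈ J, ∀ y ∈ J, φ (x * y) = φ x * φ y) (h4 : ∃ x ∈ J, φ x ≠ 1) : SNA J' := by
  have := h.simple
  have h5 : φ 1 = 1 := by
    have := h3 1 J.one_mem 1 J.one_mem
    rw [mul_one] at this
    exact left_eq_mul.1 this
  let f : ↥J →* ↥J' :=
    { toFun := fun x => ⟨φ x, h1 x x.2⟩
      map_one' := Subtype.ext h5
      map_mul' := fun x y => Subtype.ext (h3 x x.2 y y.2) }
  have hf : Function.Surjective f := by
    rintro ⟨y, hy⟩
    obtain ⟨x, hx, rfl⟩ := h2 y hy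
    exact ⟨⟨x, hx⟩, rfl⟩
  have hinj : Function.Injective f := by
    rw [← MonoidHom.ker_eq_bot_iff]
    rcases (inferInstance : f.ker.Normal).eq_bot_or_eq_top with h6 | h6
    · exact h6
    · exfalso
      obtain ⟨x, hx, hne⟩ := h4
      have : (⟨x, hx⟩ : ↥J) ∈ f.ker := by rw [h6]; trivial
      exact hne (congrArg Subtype.val this)
  have : Nontrivial ↥J' := by
    obtain ⟨x, hx, hne⟩ := h4
    exact ⟨⟨⟨φ x, h1 x hx⟩, 1, fun e => hne (congrArg Subtype.val e)⟩⟩
  refine ⟨IsSimpleGroup.isSimpleGroup_of_surjective f hf, ?_⟩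
  obtain ⟨x, hx, y, hy, hne⟩ := h.nonab
  refine ⟨φ x, h1 x hx, φ y, h1 y hy, fun e => hne ?_⟩
  have : f (⟨x, hx⟩ * ⟨y, hy⟩) = f (⟨y, hy⟩ * ⟨x, hx⟩) := by
    apply Subtype.ext
    show φ (x * y) = φ (y * x)
    rw [h3 x hx y hy, h3 y hy x hx, e]
  exact congrArg Subtype.val (hinj this)

theorem conj (h : SNA J) (s : X) : SNA (cj s J) := by
  refine h.of_map (fun x => s * x * s⁻¹) (fun x hx => conj_mem_cj hx) (fun y hy => ?_) (fun x _ y _ => by group) ?_
  · obtain ⟨x, hx, rfl⟩ := exists_of_mem_cj hy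
    exact ⟨x, hx, rfl⟩
  · obtain ⟨x, hx, hne⟩ := h.exists_ne_one
    exact ⟨x, hx, by rwa [Ne, conj_eq_one_iff]⟩

/-- Two simple groups, one normal in the other. -/
theorem eq_of_le (h : SNA J) (h' : J' ≤ J) (hne : J' ≠ ⊥) (hn : ∀ j ∈ J, ∀ n ∈ J', j * n * j⁻¹ ∈ J') : J' = J :=
  (h.normal h' hn).resolve_left hne

/-- If `J` normalises `N` and some `n ∈ N` acts on `J` as a nontrivial inner automorphism, then `J ≤ N`. -/
theorem le_of_acts (h : SNA J) (hN : ∀ j ∈ J, ∀ n ∈ N, j * n * j⁻¹ ∈ N) {n y : X} (hn : n ∈ N) (ha : Acts J n y)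
    (hy : y ≠ 1) : J ≤ N := by
  have h1 : ¬ ∀ j ∈ J, y * j = j * y := fun h2 => hy (h.cl y ha.1 h2)
  push Not at h1
  obtain ⟨j, hj, hne⟩ := h1
  have h2 : n * j * n⁻¹ * j⁻¹ ∈ J ⊓ N := by
    constructor
    · exact J.mul_mem (ha.conj_mem hj) (J.inv_mem hj)
    · have h3 := N.mul_mem hn (hN j hj n⁻¹ (N.inv_mem hn))
      have h4 : n * (j * n⁻¹ * j⁻¹) = n * j * n⁻¹ * j⁻¹ := by group
      rwa [h4] at h3
  have h3 : n * j * n⁻¹ * j⁻¹ ≠ 1 := by
    rw [ha.2 j hj]
    intro e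
    apply hne
    calc y * j = (y * j * y⁻¹ * j⁻¹) * (j * y) := by group
      _ = j * y := by rw [e, one_mul]
  rcases h.normal (N := J ⊓ N) inf_le_left (fun i hi m hm =>
    ⟨J.mul_mem (J.mul_mem hi hm.1) (J.inv_mem hi), hN i hi m hm.2⟩) with h4 | h4
  · exfalso
    rw [h4, Subgroup.mem_bot] at h2
    exact h3 h2
  · rw [← h4]; exact inf_le_right

end SNA

/-! ### Families of simple groups -/

/-- The members of `Ω` are simple and not abelian, and commute pairwise. -/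
structure SP (Ω : Set (Subgroup X)) : Prop where
  sna : ∀ J ∈ Ω, SNA J
  pc : PC Ω

namespace SP

variable {Ω Ω' : Set (Subgroup X)}

theorem cl (h : SP Ω) {J : Subgroup X} (hJ : J ∈ Ω) : CL J := (h.sna J hJ).cl

theorem mono (h : SP Ω) (h' : Ω' ⊆ Ω) : SP Ω' := ⟨fun J hJ => h.sna J (h' hJ), h.pc.mono h'⟩

theorem conj (h : SP Ω) (s : X) : SP (cj s '' Ω) := by
  refine ⟨?_, ?_⟩
  · rintro _ ⟨J, hJ, rfl⟩
    exact (h.sna J hJ).conj s
  · rintro _ ⟨J, hJ, rfl⟩ _ ⟨K, hK, rfl⟩ hne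
    exact (h.pc J hJ K hK (fun e => hne (by rw [e]))).conj s

theorem le_dom (h : SP Ω) {J : Subgroup X} (hJ : J ∈ Ω) : sSup Ω ≤ dom J := h.pc.le_dom hJ

theorem acts (h : SP Ω) {J : Subgroup X} (hJ : J ∈ Ω) {x : X} (hx : x ∈ sSup Ω) : Acts J x (pr J x) :=
  pr_acts (h.le_dom hJ hx)

theorem conj_mem (h : SP Ω) {J : Subgroup X} (hJ : J ∈ Ω) {x j : X} (hx : x ∈ sSup Ω) (hj : j ∈ J) :
    x * j * x⁻¹ ∈ J := (h.acts hJ hx).conj_mem hj

variable [Finite X]

theorem eq_one (h : SP Ω) {x : X} (hx : x ∈ sSup Ω) (h1 : ∀ J ∈ Ω, pr J x = 1) : x = 1 :=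
  eq_one_of_acts (Set.toFinite _) h.pc (fun _ hJ => h.cl hJ) hx h1

theorem ext (h : SP Ω) {x y : X} (hx : x ∈ sSup Ω) (hy : y ∈ sSup Ω) (h1 : ∀ J ∈ Ω, pr J x = pr J y) : x = y :=
  ext_of_pr (Set.toFinite _) h.pc (fun _ hJ => h.cl hJ) hx hy h1

theorem ext_acts (h : SP Ω) {x y : X} (hx : x ∈ sSup Ω) (hy : y ∈ sSup Ω) (h1 : ∀ J ∈ Ω, ∃ z, Acts J x z ∧ Acts J y z) :
    x = y := h.ext hx hy fun J hJ => by
  obtain ⟨z, h2, h3⟩ := h1 J hJ
  rw [h2.pr_eq (h.cl hJ), h3.pr_eq (h.cl hJ)]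

theorem exists_pr_ne (h : SP Ω) {x : X} (hx : x ∈ sSup Ω) (hne : x ≠ 1) : ∃ J ∈ Ω, pr J x ≠ 1 := by
  by_contra h1
  push Not at h1
  exact hne (h.eq_one hx h1)

/-- `x ∈ W` if all the components of `x` are in `W`. -/
theorem mem_of_pr (h : SP Ω) (W : Subgroup X) {x : X} (hx : x ∈ sSup Ω) (h1 : ∀ J ∈ Ω, pr J x ∈ W) : x ∈ W :=
  mem_of_acts (Set.toFinite _) h.pc W hx fun J hJ y hy => by
    have := h1 J hJ
    rwa [hy.pr_eq (h.cl hJ)] at this

/-- The centre of `⟨Ω⟩` is trivial. -/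
theorem clSup (h : SP Ω) : CL (sSup Ω) := by
  intro z hz hc
  refine h.eq_one hz fun J hJ => ?_
  exact pr_comm (h.cl hJ) fun j hj => hc j (le_sSup hJ hj)

/-- A simple subgroup normalised by all the factors is a factor. -/
theorem mem_of_normal (h : SP Ω) {N : Subgroup X} (hN : SNA N) (hle : N ≤ sSup Ω)
    (hn : ∀ J ∈ Ω, ∀ j ∈ J, ∀ n ∈ N, j * n * j⁻¹ ∈ N) : N ∈ Ω := by
  obtain ⟨n, hn', hne⟩ := hN.exists_ne_one
  obtain ⟨J, hJ, hJn⟩ := h.exists_pr_ne (hle hn') hne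
  have h1 : J ≤ N := (h.sna J hJ).le_of_acts (hn J hJ) hn' (h.acts hJ (hle hn')) hJn
  have h2 : J = N := hN.eq_of_le h1 (h.sna J hJ).ne_bot fun m hm j hj => h.conj_mem hJ (hle hm) hj
  rw [← h2]; exact hJ

/-- The factors are unique. -/
theorem subset_of_eq (h : SP Ω) (h' : SP Ω') (e : sSup Ω' = sSup Ω) : Ω' ⊆ Ω := by
  intro N hN
  refine h.mem_of_normal (h'.sna N hN) (by rw [← e]; exact le_sSup hN) fun J hJ j hj n hn => ?_
  exact h'.conj_mem hN (by rw [e]; exact le_sSup hJ hj) hn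

theorem unique (h : SP Ω) (h' : SP Ω') (e : sSup Ω = sSup Ω') : Ω = Ω' :=
  Set.Subset.antisymm (h'.subset_of_eq h e) (h.subset_of_eq h' e.symm)

/-- The normal subgroups. -/
theorem normal_eq (h : SP Ω) {N : Subgroup X} (hle : N ≤ sSup Ω) (hn : ∀ J ∈ Ω, ∀ j ∈ J, ∀ n ∈ N, j * n * j⁻¹ ∈ N) :
    N = sSup {J ∈ Ω | J ≤ N} := by
  apply le_antisymm
  · intro n hn'
    refine h.mem_of_pr _ (hle hn') fun J hJ => ?_
    by_cases h1 : pr J n = 1
    · rw [h1]; exact Subgroup.one_mem _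
    · have h2 : J ≤ N := (h.sna J hJ).le_of_acts (hn J hJ) hn' (h.acts hJ (hle hn')) h1
      exact (le_sSup ⟨hJ, h2⟩ : J ≤ sSup {J ∈ Ω | J ≤ N}) (h.acts hJ (hle hn')).1
  · exact sSup_le fun J hJ => hJ.2

/-- A nontrivial normal subgroup contains a factor. -/
theorem exists_le_of_normal (h : SP Ω) {N : Subgroup X} (hle : N ≤ sSup Ω) (hne : N ≠ ⊥)
    (hn : ∀ J ∈ Ω, ∀ j ∈ J, ∀ n ∈ N, j * n * j⁻¹ ∈ N) : ∃ J ∈ Ω, J ≤ N := by
  by_contra h1
  push Not at h1
  apply hne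
  rw [h.normal_eq hle hn]
  have : {J ∈ Ω | J ≤ N} = ∅ := by
    ext J
    simp only [Set.mem_ofPred_eq, Set.mem_empty_iff_false, iff_false, not_and]
    exact h1 J
  rw [this, sSup_empty]

/-- Distinct factors intersect trivially. -/
theorem eq_of_inter (h : SP Ω) {J K : Subgroup X} (hJ : J ∈ Ω) (hK : K ∈ Ω) {x : X} (hxJ : x ∈ J) (hxK : x ∈ K)
    (hne : x ≠ 1) : J = K := by
  by_contra h1
  exact hne (h.cl hJ x hxJ fun j hj => (h.pc J hJ K hK h1 j hj x hxK).symm)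

theorem eq_of_le (h : SP Ω) {J K : Subgroup X} (hJ : J ∈ Ω) (hK : K ∈ Ω) (hle : J ≤ K) : J = K := by
  obtain ⟨x, hx, hne⟩ := (h.sna J hJ).exists_ne_one
  exact h.eq_of_inter hJ hK hx (hle hx) hne

/-- If `f` normalises all the factors, the fixed points of `f` are the product of the fixed points of `f` on the factors. -/
theorem mem_fix (h : SP Ω) {f : X} (hf : ∀ J ∈ Ω, cj f J = J) {x : X} (hx : x ∈ sSup Ω) (hc : f * x = x * f)
    {J : Subgroup X} (hJ : J ∈ Ω) : f * pr J x = pr J x * f := by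
  have h1 := (h.acts hJ hx).conj f
  rw [hf J hJ] at h1
  have h2 : f * x * f⁻¹ = x := by rw [hc]; group
  rw [h2] at h1
  have h3 := Acts.unique (h.cl hJ) (h.acts hJ hx) h1
  calc f * pr J x = f * pr J x * f⁻¹ * f := by group
    _ = pr J x * f := by rw [← h3]

end SP

/-! ### Diagonals -/

/-- The diagonal of `J, J^e, …, J^{e^{r-1}}`. -/
def dgS (e : X) (r : ℕ) (J : Subgroup X) : Subgroup X := Subgroup.closure {z | ∃ x ∈ J, z = dg e r x}

theorem dg_mem_dgS {e : X} {r : ℕ} {J : Subgroup X} {x : X} (hx : x ∈ J) : dg e r x ∈ dgS e r J :=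
  Subgroup.subset_closure ⟨x, hx, rfl⟩

theorem cj_dgS {e s : X} {r : ℕ} {J : Subgroup X} (h : s * e = e * s) : cj s (dgS e r J) = dgS e r (cj s J) := by
  have key : ∀ {s : X} {J : Subgroup X}, s * e = e * s → cj s (dgS e r J) ≤ dgS e r (cj s J) := by
    intro s J h
    unfold cj
    rw [Subgroup.map_le_iff_le_comap]
    unfold dgS
    rw [Subgroup.closure_le]
    rintro _ ⟨x, hx, rfl⟩
    refine Subgroup.subset_closure ⟨s * x * s⁻¹, conj_mem_cj hx, ?_⟩
    exact dg_conj r h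
  refine le_antisymm (key h) ?_
  have h1 : s⁻¹ * e = e * s⁻¹ := (Commute.inv_left (show Commute s e from h))
  have h2 := key (J := cj s J) h1
  rw [cj_inv_cj] at h2
  have h3 := cj_mono (s := s) h2
  rwa [cj_cj_inv] at h3

section Moves

variable {r : ℕ} (hr : r.Prime) {e : X} (he : e ^ r = 1) {Ω : Set (Subgroup X)} (hst : ∀ J ∈ Ω, cj e J ∈ Ω)
  (hmv : ∀ J ∈ Ω, cj e J ≠ J)

include hr he hst hmv in
theorem mem_dgS (hpc : PC Ω) {J : Subgroup X} (hJ : J ∈ Ω) {z : X} : z ∈ dgS e r J ↔ ∃ x ∈ J, z = dg e r x := by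
  constructor
  · intro hz
    let S : Subgroup X :=
      { carrier := {z | ∃ x ∈ J, z = dg e r x}
        one_mem' := ⟨1, J.one_mem, (dg_one e r).symm⟩
        mul_mem' := by
          rintro _ _ ⟨x, hx, rfl⟩ ⟨y, hy, rfl⟩
          exact ⟨x * y, J.mul_mem hx hy, (dg_mul' hr he hst hmv hpc hJ hx hy).symm⟩
        inv_mem' := by
          rintro _ ⟨x, hx, rfl⟩
          exact ⟨x⁻¹, J.inv_mem hx, (dg_inv' hr he hst hmv hpc hJ hx).symm⟩ }
    have : dgS e r J ≤ S := (Subgroup.closure_le S).2 fun z hz => hz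
    exact this hz
  · rintro ⟨x, hx, rfl⟩
    exact dg_mem_dgS hx

include hr he hst hmv in
theorem dgS_cj_pow (hpc : PC Ω) {J : Subgroup X} (hJ : J ∈ Ω) (i : ℕ) : dgS e r (cj (e ^ i) J) = dgS e r J := by
  have h1 : e ^ i * e = e * e ^ i := (Commute.pow_left (Commute.refl e) i)
  rw [← cj_dgS h1]
  ext z
  have h2 : ∀ z ∈ dgS e r J, (e ^ i)⁻¹ * z * e ^ i = z ∧ e ^ i * z * (e ^ i)⁻¹ = z := by
    intro z hz
    obtain ⟨x, hx, rfl⟩ := (mem_dgS hr he hst hmv hpc hJ).1 hz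
    have h3 : Commute (e ^ i) (dg e r x) := Commute.pow_left (dg_fix' hr he hst hmv hpc hJ hx) i
    constructor
    · rw [mul_assoc, ← h3.eq]; group
    · rw [h3.eq]; group
  constructor
  · intro hz
    obtain ⟨x, hx, rfl⟩ := exists_of_mem_cj hz
    rw [(h2 x hx).2]; exact hx
  · intro hz
    rw [mem_cj, (h2 z hz).1]; exact hz

include hr he hst hmv in
theorem dg_comm' (hpc : PC Ω) {J : Subgroup X} (hJ : J ∈ Ω) {x : X} (hx : x ∈ J) {K : Subgroup X} (hK : K ∈ Ω)
    (h : ∀ i, i < r → cj (e ^ i) J ≠ K) {y : X} (hy : y ∈ K) : dg e r x * dg e r y = dg e r y * dg e r x := by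
  refine dg_comm fun i _ => ?_
  refine (dg_comm_of_ne hst hpc hJ hx (cj_pow_mem hst hK i) (fun k hk e' => ?_) (conj_mem_cj hy)).symm
  -- `e^k J = e^i K`, so that `K` is in the orbit of `J`
  have h0 : 0 < r := hr.pos
  have h1 : cj (e ^ ((k + (r - 1) * i) % r)) J = K := by
    have h2 : e ^ ((k + (r - 1) * i) % r) = e ^ (k + (r - 1) * i) := by
      conv_rhs => rw [← Nat.mod_add_div (k + (r - 1) * i) r, pow_add, pow_mul, he, one_pow, mul_one]
    have h3 : e ^ (k + (r - 1) * i) = (e ^ i)⁻¹ * e ^ k := by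
      rw [eq_inv_mul_iff_mul_eq, ← pow_add]
      have h4 : i + (k + (r - 1) * i) = k + r * i := by
        obtain ⟨m, rfl⟩ : ∃ m, r = m + 1 := ⟨r - 1, by omega⟩
        simp only [Nat.add_sub_cancel]
        ring
      rw [h4, pow_add, pow_mul, he, one_pow, mul_one]
    rw [h2, h3, cj_mul, e', cj_inv_cj]
  exact h _ (Nat.mod_lt _ h0) h1

include hr he hst hmv in
/-- The diagonal of a simple factor. -/
theorem SNA.dgS (h : SP Ω) {J : Subgroup X} (hJ : J ∈ Ω) : SNA (dgS e r J) := by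
  refine (h.sna J hJ).of_map (dg e r) (fun x hx => dg_mem_dgS hx) (fun y hy => ?_)
    (fun x hx y hy => dg_mul' hr he hst hmv h.pc hJ hx hy) ?_
  · obtain ⟨x, hx, rfl⟩ := (mem_dgS hr he hst hmv h.pc hJ).1 hy
    exact ⟨x, hx, rfl⟩
  · obtain ⟨x, hx, hne⟩ := (h.sna J hJ).exists_ne_one
    refine ⟨x, hx, fun e1 => hne ?_⟩
    have h1 := dg_acts' hr he hst hmv h.pc hJ hx
    rw [e1] at h1
    exact Acts.unique (h.cl hJ) h1 (Acts.one J)

include hr he hst hmv in
theorem sp_dg (h : SP Ω) : SP (Prj.dgS e r '' Ω) := by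
  refine ⟨?_, ?_⟩
  · rintro _ ⟨J, hJ, rfl⟩
    exact SNA.dgS hr he hst hmv h hJ
  · rintro _ ⟨J, hJ, rfl⟩ _ ⟨K, hK, rfl⟩ hne x hx y hy
    obtain ⟨x, hx', rfl⟩ := (mem_dgS hr he hst hmv h.pc hJ).1 hx
    obtain ⟨y, hy', rfl⟩ := (mem_dgS hr he hst hmv h.pc hK).1 hy
    refine dg_comm' hr he hst hmv h.pc hJ hx' hK (fun i _ e' => hne ?_) hy'
    rw [← e', dgS_cj_pow hr he hst hmv h.pc hJ]

include hst in
theorem dgS_le {J : Subgroup X} (hJ : J ∈ Ω) : Prj.dgS e r J ≤ sSup Ω := by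
  unfold Prj.dgS
  rw [Subgroup.closure_le]
  rintro _ ⟨x, hx, rfl⟩
  exact dg_mem_sSup hst hJ hx r

include hr he hst hmv in
theorem dgS_comm_e (hpc : PC Ω) {J : Subgroup X} (hJ : J ∈ Ω) {z : X} (hz : z ∈ Prj.dgS e r J) : e * z = z * e := by
  obtain ⟨x, hx, rfl⟩ := (mem_dgS hr he hst hmv hpc hJ).1 hz
  exact dg_fix' hr he hst hmv hpc hJ hx

include hr he hst hmv in
/-- The centraliser of `e` in `⟨Ω⟩`. -/
theorem sSup_dg [Finite X] (h : SP Ω) : sSup (Prj.dgS e r '' Ω) = sSup Ω ⊓ Subgroup.centralizer ({e} : Set X) := by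
  apply le_antisymm
  · refine sSup_le ?_
    rintro _ ⟨J, hJ, rfl⟩
    refine le_inf (dgS_le hst hJ) fun z hz => ?_
    rw [Subgroup.mem_centralizer_singleton_iff]
    exact (dgS_comm_e hr he hst hmv h.pc hJ hz).symm
  · rintro x ⟨hx, hxe⟩
    have hxe' : x ∈ Subgroup.centralizer ({e} : Set X) := hxe
    rw [Subgroup.mem_centralizer_singleton_iff] at hxe'
    have hx' : x ∈ sSup Ω := hx
    obtain ⟨k, hk, hkS, -, hkc⟩ := DG hr he hst hmv (Set.toFinite _) h.pc (sSup (Prj.dgS e r '' Ω))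
      (fun J hJ y hy => (le_sSup (Set.mem_image_of_mem _ hJ) : Prj.dgS e r J ≤ sSup (Prj.dgS e r '' Ω)) (dg_mem_dgS hy))
      x hx' hxe'.symm
    have h1 : k⁻¹ * x = 1 := by
      refine h.eq_one (Subgroup.mul_mem _ (Subgroup.inv_mem _ hkS) hx') fun J hJ => ?_
      exact pr_comm (h.cl hJ) (hkc J hJ)
    rw [← inv_mul_eq_one.1 h1]; exact hk

end Moves

/-! ### Subgroups projecting onto all the factors -/

/-- Let `N` be a subgroup of `⟨Ω⟩` projecting onto all the factors, and such that for `U ≠ V` some `n ∈ N` has component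
`≠ 1` in `U` and `1` in `V`. Then `N = ⟨Ω⟩`. -/
theorem sub_eq [Finite X] {Ω : Set (Subgroup X)} (h : SP Ω) {N : Subgroup X} (hN : N ≤ sSup Ω)
    (hsurj : ∀ U ∈ Ω, ∀ u ∈ U, ∃ n ∈ N, pr U n = u)
    (hsep : ∀ U ∈ Ω, ∀ V ∈ Ω, U ≠ V → ∃ n ∈ N, pr U n ≠ 1 ∧ pr V n = 1) : N = sSup Ω := by
  classical
  refine le_antisymm hN (sSup_le fun U hU => ?_)
  have hUs := h.sna U hU
  have hUcl := h.cl hU
  -- for a finite set `S` of other factors there is an `n` with component `≠ 1` in `U` and `1` in the members of `S`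
  have key : ∀ S : Set (Subgroup X), S.Finite → S ⊆ Ω \ {U} → ∃ n ∈ N, pr U n ≠ 1 ∧ ∀ V ∈ S, pr V n = 1 := by
    intro S hS
    refine hS.induction_on_subset (motive := fun S _ => S ⊆ Ω \ {U} → ∃ n ∈ N, pr U n ≠ 1 ∧ ∀ V ∈ S, pr V n = 1) S ?_ ?_
    · intro _
      obtain ⟨u, hu, hne⟩ := hUs.exists_ne_one
      obtain ⟨n, hn, e⟩ := hsurj U hU u hu
      exact ⟨n, hn, by rwa [e], fun V hV => absurd hV (Set.notMem_empty _)⟩
    · intro V S' _ _ _ ih hsub
      obtain ⟨n, hn, hnU, hnS⟩ := ih fun W hW => hsub (Set.mem_insert_of_mem _ hW)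
      have hV := hsub (Set.mem_insert V S')
      obtain ⟨m, hm, hmU, hmV⟩ := hsep U hU V hV.1 (fun e => hV.2 e.symm)
      -- some conjugate of `m` does not commute with `n` in `U`
      have h1 : ∃ g ∈ N, pr U n * pr U (g * m * g⁻¹) ≠ pr U (g * m * g⁻¹) * pr U n := by
        by_contra h2
        push Not at h2
        -- the centraliser of `pr U n` in `U` contains the normal closure of `pr U m`
        let C : Subgroup X := Subgroup.closure {z | ∃ g ∈ N, z = pr U (g * m * g⁻¹)}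
        have hgm : ∀ g ∈ N, g * m * g⁻¹ ∈ dom U := fun g hg =>
          h.le_dom hU (hN (N.mul_mem (N.mul_mem hg hm) (N.inv_mem hg)))
        have hCU : C ≤ U := by
          rw [Subgroup.closure_le]
          rintro _ ⟨g, hg, rfl⟩
          exact pr_mem (hgm g hg)
        have hCn : ∀ j ∈ U, ∀ c ∈ C, j * c * j⁻¹ ∈ C := by
          intro j hj c hc
          obtain ⟨g, hg, rfl⟩ := hsurj U hU j hj
          have hgd := h.le_dom hU (hN hg)
          induction hc using Subgroup.closure_induction with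
          | mem c hc =>
            obtain ⟨k, hk, rfl⟩ := hc
            refine Subgroup.subset_closure ⟨g * k, N.mul_mem hg hk, ?_⟩
            rw [← pr_inv hUcl hgd, ← pr_mul hUcl hgd (hgm k hk),
              ← pr_mul hUcl (Subgroup.mul_mem _ hgd (hgm k hk)) (Subgroup.inv_mem _ hgd)]
            congr 1; group
          | one => rw [mul_one, mul_inv_cancel]; exact C.one_mem
          | mul a b _ _ ha hb =>
            have : pr U g * (a * b) * (pr U g)⁻¹ = (pr U g * a * (pr U g)⁻¹) * (pr U g * b * (pr U g)⁻¹) := by group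
            rw [this]; exact C.mul_mem ha hb
          | inv a _ ha =>
            have : pr U g * a⁻¹ * (pr U g)⁻¹ = (pr U g * a * (pr U g)⁻¹)⁻¹ := by group
            rw [this]; exact C.inv_mem ha
        have hmC : pr U m ∈ C := Subgroup.subset_closure ⟨1, N.one_mem, by simp⟩
        have hCt : C = U := by
          refine hUs.eq_of_le hCU (fun e => hmU ?_) hCn
          rw [e, Subgroup.mem_bot] at hmC
          exact hmC
        apply hnU
        refine hUcl _ (pr_mem (h.le_dom hU (hN hn))) fun j hj => ?_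
        rw [← hCt] at hj
        induction hj using Subgroup.closure_induction with
        | mem c hc =>
          obtain ⟨g, hg, rfl⟩ := hc
          exact h2 g hg
        | one => rw [mul_one, one_mul]
        | mul a b _ _ ha hb => exact Commute.mul_right (show Commute (pr U n) a from ha) (show Commute (pr U n) b from hb)
        | inv a _ ha => exact Commute.inv_right (show Commute (pr U n) a from ha)
      obtain ⟨g, hg, hgne⟩ := h1
      have hm' : g * m * g⁻¹ ∈ N := N.mul_mem (N.mul_mem hg hm) (N.inv_mem hg)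
      have hm'V : pr V (g * m * g⁻¹) = 1 := by
        have hgV := h.le_dom hV.1 (hN hg)
        have hmV' := h.le_dom hV.1 (hN hm)
        rw [pr_mul (h.cl hV.1) (Subgroup.mul_mem _ hgV hmV') (Subgroup.inv_mem _ hgV), pr_mul (h.cl hV.1) hgV hmV',
          pr_inv (h.cl hV.1) hgV, hmV, mul_one, mul_inv_cancel]
      set m' := g * m * g⁻¹ with hm'def
      have hcomm : ∀ W ∈ Ω, pr W (n * m' * n⁻¹ * m'⁻¹) = pr W n * pr W m' * (pr W n)⁻¹ * (pr W m')⁻¹ := by
        intro W hW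
        have h3 := h.le_dom hW (hN hn)
        have h4 := h.le_dom hW (hN hm')
        rw [pr_mul (h.cl hW) (Subgroup.mul_mem _ (Subgroup.mul_mem _ h3 h4) (Subgroup.inv_mem _ h3))
          (Subgroup.inv_mem _ h4), pr_mul (h.cl hW) (Subgroup.mul_mem _ h3 h4) (Subgroup.inv_mem _ h3),
          pr_mul (h.cl hW) h3 h4, pr_inv (h.cl hW) h3, pr_inv (h.cl hW) h4]
      refine ⟨n * m' * n⁻¹ * m'⁻¹, N.mul_mem (N.mul_mem (N.mul_mem hn hm') (N.inv_mem hn)) (N.inv_mem hm'), ?_, ?_⟩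
      · rw [hcomm U hU]
        intro e
        apply hgne
        calc pr U n * pr U m' = (pr U n * pr U m' * (pr U n)⁻¹ * (pr U m')⁻¹) * (pr U m' * pr U n) := by group
          _ = pr U m' * pr U n := by rw [e, one_mul]
      · intro W hW
        rcases Set.mem_insert_iff.1 hW with rfl | hW'
        · rw [hcomm W hV.1, hm'V]; group
        · rw [hcomm W (hsub hW).1, hnS W hW']; group
  obtain ⟨n, hn, hnU, hnS⟩ := key (Ω \ {U}) (Set.toFinite _) (le_refl _)
  -- `n` is an element of `U`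
  have hnn : n = pr U n := by
    refine h.ext (hN hn) (le_sSup hU (h.acts hU (hN hn)).1) fun W hW => ?_
    by_cases e : W = U
    · rw [e, pr_self hUcl (h.acts hU (hN hn)).1]
    · rw [hnS W ⟨hW, e⟩]
      exact (pr_comm (h.cl hW) fun j hj => h.pc U hU W hW (fun e' => e e'.symm) _ (h.acts hU (hN hn)).1 j hj).symm
  have hnU' : n ∈ U := by rw [hnn]; exact (h.acts hU (hN hn)).1
  -- `U ∩ N` is normal in `U`
  have h5 : U ⊓ N = ⊥ ∨ U ⊓ N = U := by
    refine hUs.normal inf_le_left fun j hj m hm => ?_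
    obtain ⟨g, hg, rfl⟩ := hsurj U hU j hj
    have h6 := (h.acts hU (hN hg)).2 m hm.1
    rw [← h6]
    exact ⟨h.conj_mem hU (hN hg) hm.1, N.mul_mem (N.mul_mem hg hm.2) (N.inv_mem hg)⟩
  rcases h5 with h5 | h5
  · exfalso
    have : n ∈ U ⊓ N := ⟨hnU', hn⟩
    rw [h5, Subgroup.mem_bot] at this
    rw [this, pr_one hUcl] at hnU
    exact hnU rfl
  · rw [← h5]; exact inf_le_right

end Cfsg.Agent.H15.Prj
end

-- part: H15/Ext
section
set_option linter.all false
open scoped Cfsg.Agent.FastGrp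

/-!
# The layer of a subgroup as a product of simple groups

`LT T = E(T)` as a subgroup of `X`, `OT T` the set of the components of `T` as subgroups of `X`.
-/

set_option autoImplicit false
set_option linter.unusedSectionVars false

namespace Cfsg.Agent.H15.Prj

open Cfsg Cfsg.Agent.SignalizersComponents.Components

variable {X : Type*} [Group X]

/-- The layer of `T`. -/
def LT (T : Subgroup X) : Subgroup X := (layer ↥T).map T.subtype

/-- The components of `T`. -/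
def OT (T : Subgroup X) : Set (Subgroup X) := {J | ∃ C : Subgroup ↥T, IsComponent C ∧ J = C.map T.subtype}

theorem LT_eq (T : Subgroup X) : LT T = sSup (OT T) := by
  apply le_antisymm
  · unfold LT layer
    rw [Subgroup.map_le_iff_le_comap]
    refine sSup_le fun C hC => ?_
    rw [← Subgroup.map_le_iff_le_comap]
    exact le_sSup ⟨C, hC, rfl⟩
  · refine sSup_le ?_
    rintro _ ⟨C, hC, rfl⟩
    exact Subgroup.map_mono (le_sSup hC)

theorem LT_le (T : Subgroup X) : LT T ≤ T := by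
  rintro _ ⟨x, _, rfl⟩
  exact x.2

theorem LT_normal (T : Subgroup X) {x k : X} (hx : x ∈ T) (hk : k ∈ LT T) : x * k * x⁻¹ ∈ LT T := by
  obtain ⟨k, hk, rfl⟩ := hk
  have := Cfsg.Agent.S1755.layer_normal ↥T
  exact ⟨⟨x, hx⟩ * k * ⟨x, hx⟩⁻¹, this.conj_mem k hk ⟨x, hx⟩, rfl⟩

theorem OT_pc (T : Subgroup X) : PC (OT T) := by
  rintro _ ⟨C, hC, rfl⟩ _ ⟨D, hD, rfl⟩ hne
  have h1 := component_le_centralizer_of_ne hC hD (fun e => hne (by rw [e]))
  rintro _ ⟨x, hx, rfl⟩ _ ⟨y, hy, rfl⟩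
  have h2 := Subgroup.mem_centralizer_iff.1 (h1 hx) y hy
  exact (congrArg Subtype.val h2).symm

/-- `s` normalising `T` normalises the layer. -/
theorem LT_conj (T : Subgroup X) {s : X} (hs : s ∈ Subgroup.normalizer (T : Set X)) {k : X} (hk : k ∈ LT T) :
    s * k * s⁻¹ ∈ LT T := by
  obtain ⟨k, hk, rfl⟩ := hk
  have h1 := Cfsg.Agent.Lib.GenFitting.map_layer (T.normalizerMonoidHom ⟨s, hs⟩)
  have h2 : T.normalizerMonoidHom ⟨s, hs⟩ k ∈ layer ↥T := by
    rw [← h1]
    exact ⟨k, hk, rfl⟩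
  exact ⟨_, h2, rfl⟩

/-- The components are simple if the layer has trivial centre. -/
theorem OT_sp (T : Subgroup X) (hcl : CL (LT T)) : SP (OT T) := by
  refine ⟨?_, OT_pc T⟩
  rintro _ ⟨C, hC, rfl⟩
  obtain ⟨hsub, hperf, hsimp⟩ := hC
  have hC : IsComponent C := ⟨hsub, hperf, hsimp⟩
  have hJle : C.map T.subtype ≤ LT T := Subgroup.map_mono (le_sSup hC)
  -- the centre of `C` is trivial
  have hcen : Subgroup.center ↥C = ⊥ := by
    rw [eq_bot_iff]
    intro z hz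
    rw [Subgroup.mem_bot]
    have h1 : ((z : ↥T) : X) = 1 := by
      refine hcl _ (hJle ⟨z, z.2, rfl⟩) ?_
      have h2 : Cm (Subgroup.zpowers ((z : ↥T) : X)) (sSup (OT T)) := by
        refine Cm.sSup_right ?_
        rintro _ ⟨D, hD, rfl⟩ w hw _ ⟨y, hy, rfl⟩
        obtain ⟨n, rfl⟩ := Subgroup.mem_zpowers_iff.1 hw
        refine Commute.zpow_left (show Commute ((z : ↥T) : X) (T.subtype y) from ?_) n
        by_cases e : C = D
        · subst e
          have h3 := Subgroup.mem_center_iff.1 hz ⟨y, hy⟩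
          have h4 := congrArg Subtype.val (congrArg Subtype.val h3)
          exact h4.symm
        · have h3 := Subgroup.mem_centralizer_iff.1 (component_le_centralizer_of_ne hC hD e z.2) y hy
          exact (congrArg Subtype.val h3).symm
      intro j hj
      rw [LT_eq] at hj
      exact h2 _ (Subgroup.mem_zpowers _) j hj
    exact Subtype.ext (Subtype.ext h1)
  let e : ↥C ⧸ Subgroup.center ↥C ≃* ↥C := (QuotientGroup.quotientMulEquivOfEq hcen).trans QuotientGroup.quotientBot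
  have hs : IsSimpleGroup ↥C := e.symm.isSimpleGroup
  let e' : ↥C ≃* ↥(C.map T.subtype) := C.equivMapOfInjective T.subtype T.subtype_injective
  refine ⟨e'.symm.isSimpleGroup, ?_⟩
  by_contra h1
  push Not at h1
  have h2 : commutator ↥C = ⊥ := by
    rw [eq_bot_iff]
    unfold commutator
    rw [Subgroup.commutator_le]
    intro a _ b _
    rw [Subgroup.mem_bot, commutatorElement_eq_one_iff_mul_comm]
    have h3 := h1 _ ⟨(a : ↥T), a.2, rfl⟩ _ ⟨(b : ↥T), b.2, rfl⟩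
    exact Subtype.ext (Subtype.ext h3)
  have h3 := hperf.commutator_eq_top
  rw [h2] at h3
  exact bot_ne_top h3

/-- A product of simple groups normal in `Y` is contained in the layer of `Y`. -/
theorem le_LT {Y : Subgroup X} {Λ : Set (Subgroup X)} (hΛ : SP Λ) (hle : sSup Λ ≤ Y)
    (hn : ∀ y ∈ Y, ∀ x ∈ sSup Λ, y * x * y⁻¹ ∈ sSup Λ) : sSup Λ ≤ LT Y := by
  refine sSup_le fun V hV => ?_
  have hVY : V ≤ Y := le_trans (le_sSup hV) hle
  have hVs := hΛ.sna V hV
  let e : ↥(V.subgroupOf Y) ≃* ↥V := Subgroup.subgroupOfEquivOfLe hVY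
  have hcomp : IsComponent (V.subgroupOf Y) := by
    constructor
    · refine Subgroup.IsSubnormal.step _ ((sSup Λ).subgroupOf Y) (Subgroup.comap_mono (le_sSup hV)) ?_ ?_
      · refine Subgroup.Normal.isSubnormal ⟨fun x hx y => ?_⟩
        rw [Subgroup.mem_subgroupOf] at hx ⊢
        exact hn y y.2 x hx
      · refine ⟨fun x hx y => ?_⟩
        rw [Subgroup.mem_subgroupOf, Subgroup.mem_subgroupOf] at hx ⊢
        have h1 : ((y : ↥Y) : X) ∈ sSup Λ := y.2
        exact hΛ.conj_mem hV h1 hx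
    · have hs : IsSimpleGroup ↥V := hVs.simple
      have : IsSimpleGroup ↥(V.subgroupOf Y) := e.isSimpleGroup
      refine Cfsg.Agent.H812.LayerSimple.quasisimple_of_simple ?_
      obtain ⟨x, hx, y, hy, hne⟩ := hVs.nonab
      refine ⟨⟨⟨x, hVY hx⟩, hx⟩, ⟨⟨y, hVY hy⟩, hy⟩, fun e1 => hne ?_⟩
      exact congrArg Subtype.val (congrArg Subtype.val e1)
  have h1 : V.subgroupOf Y ≤ layer ↥Y := le_sSup hcomp
  intro x hx
  exact ⟨⟨x, hVY hx⟩, h1 hx, rfl⟩

/-- A normal subgroup invariant under `A`; the components are permuted transitively. -/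
theorem OT_tran {A T : Subgroup X} [Finite X] (hsp : SP (OT T)) (hA : ∀ s ∈ A, ∀ k ∈ LT T, s * k * s⁻¹ ∈ LT T)
    (hAs : ∀ N : Subgroup X, N ≤ LT T → (∀ k ∈ LT T, ∀ n ∈ N, k * n * k⁻¹ ∈ N) → (∀ s ∈ A, ∀ n ∈ N, s * n * s⁻¹ ∈ N) →
      N = ⊥ ∨ N = LT T) :
    (∀ s ∈ A, ∀ J ∈ OT T, cj s J ∈ OT T) ∧ ∀ J ∈ OT T, ∀ J' ∈ OT T, ∃ s ∈ A, cj s J = J' := by
  have hinv : ∀ s ∈ A, ∀ J ∈ OT T, cj s J ∈ OT T := by
    intro s hs J hJ
    refine hsp.mem_of_normal ((hsp.sna J hJ).conj s) ?_ ?_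
    · intro y hy
      obtain ⟨y, hy', rfl⟩ := exists_of_mem_cj hy
      rw [← LT_eq]
      exact hA s hs y (by rw [LT_eq]; exact le_sSup hJ hy')
    · intro J' hJ' j hj n hn
      obtain ⟨n, hn', rfl⟩ := exists_of_mem_cj hn
      have h1 : s⁻¹ * j * s ∈ LT T := by
        have := hA s⁻¹ (A.inv_mem hs) j (by rw [LT_eq]; exact le_sSup hJ' hj)
        rwa [inv_inv] at this
      rw [LT_eq] at h1
      have h2 := hsp.conj_mem hJ h1 hn'
      have h3 : j * (s * n * s⁻¹) * j⁻¹ = s * (s⁻¹ * j * s * n * (s⁻¹ * j * s)⁻¹) * s⁻¹ := by group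
      rw [h3]
      exact conj_mem_cj h2
  refine ⟨hinv, fun J hJ J' hJ' => ?_⟩
  by_contra hne
  push Not at hne
  let O : Set (Subgroup X) := {V | ∃ s ∈ A, cj s J = V}
  have hO : O ⊆ OT T := by
    rintro _ ⟨s, hs, rfl⟩
    exact hinv s hs J hJ
  have hJO : J ≤ sSup O := le_sSup ⟨1, A.one_mem, cj_one J⟩
  have h1 : sSup O = LT T := by
    refine (hAs (sSup O) ?_ ?_ ?_).resolve_left ?_
    · rw [LT_eq]; exact sSup_le_sSup hO
    · intro k hk n hn
      rw [LT_eq] at hk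
      -- `k` normalises each member
      have h2 : cj k (sSup O) ≤ sSup O := by
        rw [cj_sSup]
        refine sSup_le ?_
        rintro _ ⟨V, hV, rfl⟩
        refine le_trans ?_ (le_sSup hV)
        intro y hy
        obtain ⟨y, hy', rfl⟩ := exists_of_mem_cj hy
        exact hsp.conj_mem (hO hV) hk hy'
      exact h2 (conj_mem_cj hn)
    · intro s hs n hn
      have h2 : cj s (sSup O) ≤ sSup O := by
        rw [cj_sSup]
        refine sSup_le_sSup ?_
        rintro _ ⟨_, ⟨t, ht, rfl⟩, rfl⟩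
        exact ⟨s * t, A.mul_mem hs ht, cj_mul s t J⟩
      exact h2 (conj_mem_cj hn)
    · intro e
      have h2 := (hsp.sna J hJ).ne_bot
      rw [e] at hJO
      exact h2 (le_bot_iff.1 hJO)
  have h2 : Cm (sSup O) J' := Cm.sSup_left fun V hV => by
    obtain ⟨s, hs, rfl⟩ := hV
    exact hsp.pc _ (hinv s hs J hJ) J' hJ' (hne s hs)
  have h3 : J' ≤ sSup O := by rw [h1, LT_eq]; exact le_sSup hJ'
  obtain ⟨x, hx, y, hy, hxy⟩ := (hsp.sna J' hJ').nonab
  exact hxy (h2 x (h3 hx) y hy)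

end Cfsg.Agent.H15.Prj
end
end
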